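import Mathlib
import Cfsg.Agent.H945.UF.PairU
import Cfsg.Agent.H437.Iso.Untw

/-!
# S3461 rows `G₂(u)`, `F₄(u)` (helper855, task 2673)
-/

set_option autoImplicit false
set_option linter.unusedVariables false

namespace Cfsg.Agent.H855.UF

open Cfsg Cfsg.Lie Cfsg.Agent.H945.UF Cfsg.Agent.H437.Iso
open Cfsg.Agent.H378.AdjTab Cfsg.Agent.H378.CycTab Cfsg.Agent.H378.ExcAdj Cfsg.Agent.H378.ExcNear
open Cfsg.Agent.Nodes.RGDChev Cfsg.Agent.BpExc.FamInst Cfsg.Agent.BpExc.RowsUntw Cfsg.Agent.BpExc.FamExt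

universe u

/-- the element of order `M` is in the centralizer of an element of order `r` -/
theorem dvd_of_cent {S : Type*} [Group S] [Finite S] {p q : ℕ} (h : CandU p q S) {r N : ℕ} (hrM : r ∣ mm q)
    (hc : ∀ x : S, orderOf x = r → Nat.card ↥(Subgroup.centralizer {x}) ∣ N) : mm q ∣ N := by
  obtain ⟨g, hg⟩ := h.elt'
  obtain ⟨k, hk⟩ := hrM
  have hn0 := h.mm_pos
  have hk0 : k ≠ 0 := by
    rintro rfl
    omega
  have h1 : orderOf (g ^ k) = r := by
    rw [orderOf_pow_of_dvd hk0 (by rw [hg, hk]; exact dvd_mul_left _ _), hg, hk, Nat.mul_div_cancel _ (Nat.pos_of_ne_zero hk0)]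
  have h2 := hc _ h1
  have h3 : g ∈ Subgroup.centralizer {g ^ k} := by
    rw [Subgroup.mem_centralizer_singleton_iff]
    exact (Commute.self_pow g k).eq
  have h4 : orderOf (⟨g, h3⟩ : ↥(Subgroup.centralizer {g ^ k})) ∣ Nat.card ↥(Subgroup.centralizer {g ^ k}) :=
    orderOf_dvd_natCard _
  rw [Subgroup.orderOf_mk, hg] at h4
  exact h4.trans h2

/-- `gcd (T, N) ∣ 3` by a Bezout identity -/
theorem coprime_of_bezout {S : Type*} [Group S] {p q : ℕ} (h : CandU p q S) {T N : ℕ} (hT : mm q ∣ T) (a b : ℤ)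
    (hab : a * T + b * N = 3 ∨ a * T + b * N = 1) : Nat.Coprime N (mm q) := by
  refine Nat.coprime_of_dvd fun k hk h1 h2 => ?_
  have h3 : (k : ℤ) ∣ a * T + b * N :=
    dvd_add ((Int.natCast_dvd_natCast.2 (h2.trans hT)).mul_left _) ((Int.natCast_dvd_natCast.2 h1).mul_left _)
  rcases hab with hab | hab
  · rw [hab] at h3
    have h4 : k ∣ 3 := by exact_mod_cast h3
    have h5 := (Nat.prime_dvd_prime_iff_eq hk Nat.prime_three).1 h4
    exact h.not_three (h5 ▸ h2)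
  · rw [hab] at h3
    have h4 : k ∣ 1 := by exact_mod_cast h3
    exact hk.one_lt.ne' (Nat.dvd_one.1 h4)

theorem numA {p q u : ℕ} (hu : 2 ≤ u) (h : PairOut p q (u ^ 2 + u + 1) (u ^ 2 - 1)) : False := by
  have h1 : 1 ≤ u ^ 2 := Nat.one_le_pow _ _ (by omega)
  rcases h with ⟨h2, h3⟩ | ⟨-, h2, h3⟩ | ⟨-, a, ha, h2, h3⟩ | h2
  · omega
  · have h4 : q = 2 * u + 3 := by omega
    subst h4
    nlinarith
  · have h4 : 2 * (u ^ 2 - 1) < 2 * (u ^ 2 + u + 1) := by omega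
    rw [h2, h3] at h4
    have h5 := lt_of_mul_lt_mul_left h4 (Nat.zero_le a)
    have h6 : q = 0 := by omega
    subst h6
    have ha1 : 1 ≤ a := by omega
    norm_num at h2 h3
    have h7 : u ^ 2 = 1 := by omega
    nlinarith
  · have hu2 : u ≤ 41 := by
      by_contra hcon
      have h3 : 42 ^ 2 ≤ u ^ 2 := Nat.pow_le_pow_left (by omega) 2
      simp only [excPairs, List.mem_cons, Prod.mk.injEq, List.not_mem_nil, or_false] at h2
      omega
    revert h2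
    interval_cases u <;> decide

theorem numB {p q u : ℕ} (hq : 7 ≤ q) (hu : 3 ≤ u) (h : PairOut p q (u ^ 2 - u + 1) (u ^ 2 - 1)) : False := by
  have h0 : 3 * u ≤ u ^ 2 := by rw [pow_two]; exact Nat.mul_le_mul_right _ hu
  rcases h with ⟨h2, h3⟩ | ⟨-, h2, h3⟩ | ⟨-, a, ha, h2, h3⟩ | h2
  · omega
  · omega
  · have hz : ((u ^ 2 - u + 1 : ℕ) : ℤ) = (u : ℤ) ^ 2 - u + 1 := by
      push_cast [show u ≤ u ^ 2 by omega]
      rfl
    have hz' : ((u ^ 2 - 1 : ℕ) : ℤ) = (u : ℤ) ^ 2 - 1 := by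
      push_cast [show 1 ≤ u ^ 2 by omega]
      rfl
    have h4 : 2 * ((u : ℤ) ^ 2 - u + 1) = a * ((q : ℤ) ^ 2 + 1) := by rw [← hz]; exact_mod_cast h2
    have h5 : 2 * ((u : ℤ) ^ 2 - 1) = a * ((q : ℤ) ^ 2 + q) := by rw [← hz']; exact_mod_cast h3
    have h6 : 2 * ((u : ℤ) - 2) = a * (q - 1) := by linear_combination h5 - h4
    have hqz : (7 : ℤ) ≤ q := by exact_mod_cast hq
    have hu' : 2 * (u : ℤ) = a * (q - 1) + 4 := by linarith
    have h7 : ((a : ℤ) * (q - 1) + 4) ^ 2 - 4 = 2 * (a * ((q : ℤ) ^ 2 + q)) := by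
      rw [← h5, ← hu']; ring
    have ha' : a = 1 ∨ a = 3 ∨ 5 ≤ a := by omega
    rcases ha' with rfl | rfl | ha'
    · push_cast at h7
      have h8 : ((q : ℤ) - 5) * (q + 1) = 0 := by linarith
      rcases mul_eq_zero.1 h8 with h9 | h9 <;> linarith
    · push_cast at h7
      nlinarith
    · have haz : (5 : ℤ) ≤ a := by exact_mod_cast ha'
      have h8 : (a : ℤ) * (a * (q - 1) ^ 2 + 8 * (q - 1) - 2 * (q ^ 2 + q)) = -12 := by linear_combination h7
      have h9 : (0 : ℤ) < a * (q - 1) ^ 2 + 8 * (q - 1) - 2 * (q ^ 2 + q) := by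
        have h10 : (5 : ℤ) * (q - 1) ^ 2 ≤ a * (q - 1) ^ 2 := mul_le_mul_of_nonneg_right haz (sq_nonneg _)
        nlinarith
      have h11 := mul_pos (show (0 : ℤ) < a by linarith) h9
      rw [h8] at h11
      norm_num at h11
  · have hu2 : u ≤ 41 := by
      by_contra hcon
      have h3 : 42 ^ 2 ≤ u ^ 2 := Nat.pow_le_pow_left (by omega) 2
      simp only [excPairs, List.mem_cons, Prod.mk.injEq, List.not_mem_nil, or_false] at h2
      omega
    revert h2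
    interval_cases u <;> decide

theorem numC {p q u : ℕ} (hu : 2 ≤ u) (h : PairOut p q (u ^ 4 + 1) (u ^ 4 - u ^ 2 + 1)) : False := by
  have e4 : u ^ 4 = u ^ 2 * u ^ 2 := by ring
  have h1 : 4 ≤ u ^ 2 := by nlinarith
  have h1' : 4 * u ^ 2 ≤ u ^ 4 := by rw [e4]; exact Nat.mul_le_mul_right _ h1
  rcases h with ⟨h2, h3⟩ | ⟨-, h2, h3⟩ | ⟨-, a, ha, h2, h3⟩ | h2
  · omega
  · have h4 : q + 1 = 2 * u ^ 2 := by omega
    have hz : (q : ℤ) = 2 * (u : ℤ) ^ 2 - 1 := by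
      have : ((q + 1 : ℕ) : ℤ) = ((2 * u ^ 2 : ℕ) : ℤ) := by rw [h4]
      push_cast at this
      linarith
    have h2' : 2 * ((u : ℤ) ^ 4 + 1) = (q : ℤ) ^ 2 + 1 := by exact_mod_cast h2
    rw [hz] at h2'
    have h1z : (4 : ℤ) ≤ (u : ℤ) ^ 2 := by exact_mod_cast h1
    nlinarith
  · have h4 : 2 * (u ^ 4 - u ^ 2 + 1) < 2 * (u ^ 4 + 1) := by omega
    rw [h2, h3] at h4
    have h5 := lt_of_mul_lt_mul_left h4 (Nat.zero_le a)
    have h6 : q = 0 := by omega
    subst h6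
    norm_num at h2 h3
  · have hu2 : u ≤ 6 := by
      by_contra hcon
      have h3 : 7 ^ 4 ≤ u ^ 4 := Nat.pow_le_pow_left (by omega) 4
      simp only [excPairs, List.mem_cons, Prod.mk.injEq, List.not_mem_nil, or_false] at h2
      omega
    revert h2
    interval_cases u <;> decide

theorem numD {p q u : ℕ} (hq : 7 ≤ q) (hu : 2 ≤ u) (h : PairOut p q (u ^ 4 - u ^ 2 + 1) (u ^ 4 + 1)) : False := by
  have e4 : u ^ 4 = u ^ 2 * u ^ 2 := by ring
  have h1 : 4 ≤ u ^ 2 := by nlinarith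
  have h1' : 4 * u ^ 2 ≤ u ^ 4 := by rw [e4]; exact Nat.mul_le_mul_right _ h1
  rcases h with ⟨h2, h3⟩ | ⟨-, h2, h3⟩ | ⟨-, a, ha, h2, h3⟩ | h2
  · omega
  · omega
  · have hz : ((u ^ 4 - u ^ 2 + 1 : ℕ) : ℤ) = (u : ℤ) ^ 4 - u ^ 2 + 1 := by
      push_cast [show u ^ 2 ≤ u ^ 4 by omega]
      rfl
    have h4 : 2 * ((u : ℤ) ^ 4 - u ^ 2 + 1) = a * ((q : ℤ) ^ 2 + 1) := by rw [← hz]; exact_mod_cast h2
    have h5 : 2 * ((u : ℤ) ^ 4 + 1) = a * ((q : ℤ) ^ 2 + q) := by exact_mod_cast h3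
    have h6 : 2 * (u : ℤ) ^ 2 = a * (q - 1) := by linear_combination h5 - h4
    have hqz : (7 : ℤ) ≤ q := by exact_mod_cast hq
    have h7 : ((a : ℤ) * (q - 1)) ^ 2 + 4 = 2 * (a * ((q : ℤ) ^ 2 + q)) := by
      rw [← h5, ← h6]; ring
    have ha' : a = 1 ∨ a = 3 ∨ 5 ≤ a := by omega
    rcases ha' with rfl | rfl | ha'
    · push_cast at h7
      nlinarith
    · push_cast at h7
      have h8 : 3 * ((q : ℤ) ^ 2 - 8 * q) = -13 := by linarith
      omega
    · have haz : (5 : ℤ) ≤ a := by exact_mod_cast ha'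
      have h8 : (a : ℤ) * (a * (q - 1) ^ 2 - 2 * (q ^ 2 + q)) = -4 := by linear_combination h7
      have h9 : (0 : ℤ) < a * (q - 1) ^ 2 - 2 * (q ^ 2 + q) := by
        have h10 : (5 : ℤ) * (q - 1) ^ 2 ≤ a * (q - 1) ^ 2 := mul_le_mul_of_nonneg_right haz (sq_nonneg _)
        nlinarith
      have h11 := mul_pos (show (0 : ℤ) < a by linarith) h9
      rw [h8] at h11
      norm_num at h11
  · have hu2 : u ≤ 6 := by
      by_contra hcon
      have h3 : 7 ^ 4 ≤ u ^ 4 := Nat.pow_le_pow_left (by omega) 4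
      simp only [excPairs, List.mem_cons, Prod.mk.injEq, List.not_mem_nil, or_false] at h2
      omega
    revert h2
    interval_cases u <;> decide

/-- **`G₂(u)`** -/
theorem row_G2 {F : Type u} [Field F] [Fintype F] (h3 : 3 ≤ Fintype.card F) {p q : ℕ} (hpF : (p : F) ≠ 0)
    (h : CandU p q ↥(Lie.chevG2.group F)) : False := by
  obtain ⟨r, hr, hrM⟩ := h.exists_prime
  have hu : 3 ≤ Nat.card F := by rw [Nat.card_eq_fintype_card]; exact h3
  have h0 : 3 * Nat.card F ≤ Nat.card F ^ 2 := by rw [pow_two]; exact Nat.mul_le_mul_right _ hu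
  have hz' : ((Nat.card F ^ 2 - 1 : ℕ) : ℤ) = (Nat.card F : ℤ) ^ 2 - 1 := by
    push_cast [show 1 ≤ Nat.card F ^ 2 by omega]
    rfl
  rcases adj_G2 F hr (h.dvd_card hrM) with h1 | h1 | h1 | h1
  · exact (h.prime_facts hr hrM).1 h1
  · exact h.not_adj hr hrM h1
  · have hT : mm q ∣ Nat.card F ^ 2 + Nat.card F + 1 := by
      refine dvd_of_cent h hrM fun x hx => ?_
      have h2 := (H378.RegFin.cent_od g2T inv_G2 one_ne_zero hr hx h1 (by decide) (by norm_num)).2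
      rw [eval_cyc3, show ((Nat.card F : ℕ) : ℤ) ^ 2 + ((Nat.card F : ℕ) : ℤ) + 1 = ((Nat.card F ^ 2 + Nat.card F + 1 : ℕ) : ℤ) by
        push_cast; rfl, Int.natAbs_natCast] at h2
      exact h2
    have hz : ((Nat.card F ^ 2 + Nat.card F + 1 : ℕ) : ℤ) = (Nat.card F : ℤ) ^ 2 + Nat.card F + 1 := by push_cast; rfl
    refine numA (by omega) (h.pair g2_order3 hT g2_order1 (by omega) ?_ ?_)
    · refine coprime_of_bezout h hT (-((Nat.card F : ℤ) - 2)) ((Nat.card F : ℤ) - 1) (Or.inl ?_)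
      rw [hz, hz']
      ring
    · rw [hz, hz']
      have : (3 : ℤ) ≤ Nat.card F := by exact_mod_cast hu
      nlinarith
  · have hT : mm q ∣ Nat.card F ^ 2 - Nat.card F + 1 := by
      refine dvd_of_cent h hrM fun x hx => ?_
      have h2 := (H378.RegFin.cent_od g2T inv_G2 one_ne_zero hr hx h1 (by decide) (by norm_num)).2
      rw [eval_cyc6, ← g2_cast6, Int.natAbs_natCast] at h2
      exact h2
    refine numB h.q_ge hu (h.pair g2_order6 hT g2_order1 (by omega) ?_ ?_)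
    · refine coprime_of_bezout h hT ((Nat.card F : ℤ) + 2) (-((Nat.card F : ℤ) + 1)) (Or.inl ?_)
      rw [g2_cast6, hz']
      ring
    · rw [g2_cast6, hz']
      have : (3 : ℤ) ≤ Nat.card F := by exact_mod_cast hu
      nlinarith

/-- **`F₄(u)`** -/
theorem row_F4 {F : Type u} [Field F] [Fintype F] {p q : ℕ} (hpF : (p : F) ≠ 0)
    (h : CandU p q ↥(Lie.chevF4.group F)) : False := by
  obtain ⟨r, hr, hrM⟩ := h.exists_prime
  have hu : 2 ≤ Nat.card F := Finite.one_lt_card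
  have hz8 : ((Nat.card F ^ 4 + 1 : ℕ) : ℤ) = (Nat.card F : ℤ) ^ 4 + 1 := by push_cast; rfl
  have huz : (2 : ℤ) ≤ Nat.card F := by exact_mod_cast hu
  have hu4 : (4 : ℤ) ≤ (Nat.card F : ℤ) ^ 2 := by nlinarith
  rcases adj_F4 F hr (h.dvd_card hrM) with h1 | h1 | h1 | h1
  · exact (h.prime_facts hr hrM).1 h1
  · exact h.not_adj hr hrM h1
  · have hT : mm q ∣ Nat.card F ^ 4 + 1 := by
      refine dvd_of_cent h hrM fun x hx => ?_
      have h2 := (H378.RegFin.cent_od f4T inv_F4 one_ne_zero hr hx h1 (by decide) (by norm_num)).2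
      rw [eval_cyc8, ← hz8, Int.natAbs_natCast] at h2
      exact h2
    refine numC hu (h.pair f4_order8 hT f4_order12 (by omega) ?_ ?_)
    · -- T - N = u², N = u⁴ - u² + 1
      refine coprime_of_bezout h hT ((1 : ℤ) - (Nat.card F : ℤ) ^ 2) ((Nat.card F : ℤ) ^ 2) (Or.inr ?_)
      rw [hz8, f4_cast12]
      ring
    · rw [hz8, f4_cast12]
      nlinarith [sq_nonneg ((Nat.card F : ℤ) ^ 2)]
  · have hT : mm q ∣ Nat.card F ^ 4 - Nat.card F ^ 2 + 1 := by
      refine dvd_of_cent h hrM fun x hx => ?_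
      have h2 := (H378.RegFin.cent_od f4T inv_F4 one_ne_zero hr hx h1 (by decide) (by norm_num)).2
      rw [eval_cyc12, ← f4_cast12, Int.natAbs_natCast] at h2
      exact h2
    refine numD h.q_ge hu (h.pair f4_order12 hT f4_order8 (by omega) ?_ ?_)
    · refine coprime_of_bezout h hT ((Nat.card F : ℤ) ^ 2) ((1 : ℤ) - (Nat.card F : ℤ) ^ 2) (Or.inr ?_)
      rw [hz8, f4_cast12]
      ring
    · rw [hz8, f4_cast12]
      nlinarith [sq_nonneg ((Nat.card F : ℤ) ^ 2)]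

end Cfsg.Agent.H855.UF
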